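import Mathlib
import Cfsg.Agent.Lib.Helper8.AutSp.BalA

/-!
# Local balance, the abstract main argument (helper8)

`K` is a centreless group, `φ` an automorphism of `K`, `j : S → K` a homomorphism whose image
(the "subfield subgroup") is fixed pointwise by `φ` and normalised by the fixed points of `φ`.
If the normal subgroups of `S` either die in `K` or contain a subgroup `M` of `S` whose image
contains an element of order `p`, the image of `S` has trivial centraliser in `K`, and the
automorphisms in `W` fixing the image of `S` pointwise have `p`-th power one, then a `p'`-group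
`W` of automorphisms commuting with `φ` and normalised by the inner automorphisms by fixed
points of `φ` is trivial.
-/

set_option autoImplicit false

namespace Cfsg.Agent.Lib.Helper8.Bal

open Cfsg Cfsg.Agent.Lib.Helper8.AutSp

theorem core_trivial_abstract {K : Type*} [Group K] {S : Type*} [Group S]
    (hZ : Subgroup.center K = ⊥) {p : ℕ} [Fact p.Prime]
    (φ : MulAut K) (j : S →* K)
    (hjfix : ∀ s : S, φ (j s) = j s)
    (hjnorm : ∀ k : K, φ k = k → ∀ s : S, ∃ s' : S, j s' = k * j s * k⁻¹)
    (M : Subgroup S)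
    (hdich : ∀ N : Subgroup S, N.Normal → (∀ n ∈ N, j n = 1) ∨ M ≤ N)
    (hcent : ∀ k : K, (∀ s : S, k * j s * k⁻¹ = j s) → k = 1)
    (W : Subgroup (MulAut K))
    (hWcop : (Nat.card ↥W).Coprime p)
    (hWcent : ∀ w ∈ W, w * φ = φ * w)
    (hWnorm : ∀ k : K, φ k = k → ∀ w ∈ W, MulAut.conj k * w * (MulAut.conj k)⁻¹ ∈ W)
    (hpow : ∀ w ∈ W, (∀ s : S, w (j s) = j s) → w ^ p = 1)
    (hordp : ∃ s ∈ M, orderOf (j s) = p) :
    W = ⊥ := by
  classical
  have hp : p.Prime := Fact.out
  have hcinj := conj_injective_of_center hZ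
  -- no element of order `p` in `W`
  have hnoP : ∀ w ∈ W, orderOf w ≠ p := by
    intro w hw hord
    have h1 : orderOf (⟨w, hw⟩ : ↥W) = p := by
      rw [← hord]
      exact Subgroup.orderOf_mk w hw
    have h2 : p ∣ Nat.card ↥W := by
      rw [← h1]
      exact orderOf_dvd_natCard _
    have := Nat.eq_one_of_dvd_coprimes hWcop h2 dvd_rfl
    exact hp.one_lt.ne' this
  -- the normal subgroup of `S` cut out by `W`
  let cj : S →* MulAut K := (MulAut.conj).comp j
  have hcj : ∀ s, cj s = MulAut.conj (j s) := fun s => rfl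
  have hnormal : (W.comap cj).Normal := by
    constructor
    intro s hs t
    rw [Subgroup.mem_comap] at hs ⊢
    rw [map_mul, map_mul, map_inv, hcj t]
    exact hWnorm _ (hjfix t) _ hs
  rcases hdich (W.comap cj) hnormal with hcen | hcomm
  · -- Case B: `W` meets the image of `S` trivially
    have B1 : ∀ s : S, MulAut.conj (j s) ∈ W → j s = 1 := fun s hs => hcen s hs
    have B2 : ∀ k : K, φ k = k → MulAut.conj k ∈ W → k = 1 := by
      intro k hk hkW
      apply hcent
      intro s
      obtain ⟨s', hs'⟩ := hjnorm k hk s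
      have h1 : MulAut.conj (j (s' * s⁻¹)) ∈ W := by
        have e : MulAut.conj (j (s' * s⁻¹)) =
            MulAut.conj k * (MulAut.conj (j s) * (MulAut.conj k)⁻¹ *
              (MulAut.conj (j s))⁻¹) := by
          rw [map_mul, hs', map_inv]
          simp only [map_mul, map_inv]
          group
        rw [e]
        exact W.mul_mem hkW (hWnorm _ (hjfix s) _ (W.inv_mem hkW))
      have h2 := B1 _ h1
      rw [map_mul, hs', map_inv, mul_inv_eq_one] at h2
      exact h2
    have B3 : ∀ w ∈ W, ∀ k : K, φ k = k → w k = k := by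
      intro w hw k hk
      have hwk : φ (w k) = w k := by
        have := DFunLike.congr_fun (hWcent w hw) k
        rw [MulAut.mul_apply, MulAut.mul_apply, hk] at this
        exact this.symm
      have h1 : MulAut.conj (w k * k⁻¹) ∈ W := by
        have e : MulAut.conj (w k * k⁻¹) =
            w * (MulAut.conj k * w⁻¹ * (MulAut.conj k)⁻¹) := by
          rw [map_mul, ← aut_mul_conj_mul_inv, map_inv]
          group
        rw [e]
        exact W.mul_mem hw (hWnorm k hk _ (W.inv_mem hw))
      have h2 := B2 (w k * k⁻¹) (by rw [map_mul, map_inv, hwk, hk]) h1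
      rwa [mul_inv_eq_one] at h2
    rw [eq_bot_iff]
    intro w hw
    rw [Subgroup.mem_bot]
    have hwp : w ^ p = 1 := hpow w hw (fun s => B3 w hw _ (hjfix s))
    have hord : orderOf w ∣ p := orderOf_dvd_of_pow_eq_one hwp
    rcases (Nat.dvd_prime hp).1 hord with h1 | h1
    · exact orderOf_eq_one_iff.1 h1
    · exact absurd h1 (hnoP w hw)
  · -- Case A: `W` contains the image of `M`
    exfalso
    obtain ⟨s, hsM, hs⟩ := hordp
    have hsW : MulAut.conj (j s) ∈ W := hcomm hsM
    have hord : orderOf (MulAut.conj (j s)) = p := by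
      rw [orderOf_injective _ hcinj]
      exact hs
    exact hnoP _ hsW hord

/-- transport of the main argument along a conjugation in the automorphism group -/
theorem core_trivial_transport {K : Type*} [Group K] {p : ℕ}
    (x φ α : MulAut K) (hα : α * x * α⁻¹ = φ)
    (main : ∀ W' : Subgroup (MulAut K), (Nat.card ↥W').Coprime p →
      (∀ w ∈ W', w * φ = φ * w) →
      (∀ k : K, φ k = k → ∀ w ∈ W', MulAut.conj k * w * (MulAut.conj k)⁻¹ ∈ W') → W' = ⊥)
    (W : Subgroup (MulAut K))
    (hWcop : (Nat.card ↥W).Coprime p)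
    (hWcent : ∀ w ∈ W, w * x = x * w)
    (hWnorm : ∀ k : K, x k = k → ∀ w ∈ W, MulAut.conj k * w * (MulAut.conj k)⁻¹ ∈ W) :
    W = ⊥ := by
  have hinj : Function.Injective (MulAut.conj α : MulAut K ≃* MulAut K) :=
    (MulAut.conj α).injective
  have hW1 : W.map (MulAut.conj α).toMonoidHom = ⊥ := by
    apply main
    · rw [Subgroup.card_map_of_injective hinj]
      exact hWcop
    · rintro _ ⟨w, hw, rfl⟩
      show α * w * α⁻¹ * φ = φ * (α * w * α⁻¹)
      rw [← hα]
      have := hWcent w hw
      calc α * w * α⁻¹ * (α * x * α⁻¹) = α * (w * x) * α⁻¹ := by group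
        _ = α * (x * w) * α⁻¹ := by rw [this]
        _ = α * x * α⁻¹ * (α * w * α⁻¹) := by group
    · rintro k₁ hk₁ _ ⟨w, hw, rfl⟩
      have hk : x (α⁻¹ k₁) = α⁻¹ k₁ := by
        have h1 : x = α⁻¹ * φ * α := by
          rw [← hα]
          group
        rw [h1, MulAut.mul_apply, MulAut.mul_apply, MulAut.apply_inv_self, hk₁]
      have h2 := hWnorm _ hk w hw
      refine ⟨_, h2, ?_⟩
      show α * (MulAut.conj (α⁻¹ k₁) * w * (MulAut.conj (α⁻¹ k₁))⁻¹) * α⁻¹ =
        MulAut.conj k₁ * (α * w * α⁻¹) * (MulAut.conj k₁)⁻¹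
      have h3 : MulAut.conj k₁ = α * MulAut.conj (α⁻¹ k₁) * α⁻¹ := by
        rw [aut_mul_conj_mul_inv, MulAut.apply_inv_self]
      rw [h3]
      group
  rwa [Subgroup.map_eq_bot_iff_of_injective _ hinj] at hW1

/-- the fixed points of conjugate automorphisms correspond -/
theorem fixG_conj_eq {K : Type*} [Group K] (x φ α : MulAut K) (hα : α * x * α⁻¹ = φ) :
    fixG φ = (fixG x).map α.toMonoidHom := by
  ext k
  rw [mem_fixG, Subgroup.mem_map]
  constructor
  · intro hk
    refine ⟨α⁻¹ k, ?_, MulAut.apply_inv_self _ α k⟩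
    rw [mem_fixG]
    have h1 : x = α⁻¹ * φ * α := by
      rw [← hα]
      group
    rw [h1, MulAut.mul_apply, MulAut.mul_apply, MulAut.apply_inv_self, hk]
  · rintro ⟨k', hk', rfl⟩
    rw [mem_fixG] at hk'
    rw [← hα]
    show (α * x * α⁻¹) (α k') = α k'
    rw [MulAut.mul_apply, MulAut.mul_apply, MulAut.inv_apply_self, hk']

theorem card_fixG_conj {K : Type*} [Group K] (x φ α : MulAut K) (hα : α * x * α⁻¹ = φ) :
    Nat.card ↥(fixG φ) = Nat.card ↥(fixG x) := by
  rw [fixG_conj_eq x φ α hα, Subgroup.card_map_of_injective α.injective]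

end Cfsg.Agent.Lib.Helper8.Bal
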