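import Cfsg.Agent.Lib.Helper8.Bal.FieldO
import Cfsg.Agent.Lib.Helper8.AutSp.BalD
import Cfsg.Agent.Lib.Helper8.AutOm.ModelO
import Cfsg.Agent.S0295
import Cfsg.Agent.H9.OrthP
import Mathlib

/-!
# Local balance for `Ω_{2m+1}` (S2731): the subfield subgroup (helper8)

`jO σ : Ω_{2m+1}(F₀) → PΩ_{2m+1}(F)` for the fixed field `F₀` of `σ`; it is fixed pointwise by
the standard field automorphism, normalised by its fixed points, simple, with trivial
centraliser, and squares of fixed points land in it.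
-/

set_option autoImplicit false

namespace Cfsg.Agent.Lib.Helper8.Bal

open Matrix Cfsg Cfsg.Agent.Lib.Helper5.GLBN Cfsg.Agent.Lib.Helper8.SpBN
open Cfsg.Agent.Lib.Helper8.Tw Cfsg.Agent.PSUT Cfsg.Agent.Lib.Helper5.AutSU
open Cfsg.Agent.Lib.Helper8.AutOm Cfsg.Agent.Lib.H7AutPO Cfsg.Agent.Lib.H7AutPSp
open Cfsg.Agent.Lib.Helper8.AutSp
open scoped MatrixGroups

universe u

/-! ### squares of isometries are commutators -/

section squares

variable {ι : Type} [Fintype ι] [DecidableEq ι] {F : Type*} [Field F] [Fintype F]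
  {Q : (ι → F) → F}

theorem sq_mem_commutator_iso (hQ : Cfsg.Geo.IsNondegenerateQuadraticForm Q)
    (h : Fintype.card F ≠ 2 ∨ Fintype.card ι ≠ 4) (y : ↥(Cfsg.isometryGroup F Q)) :
    y * y ∈ commutator ↥(Cfsg.isometryGroup F Q) := by
  obtain ⟨P, hP⟩ : ∃ P : Subgroup ↥(Cfsg.isometryGroup F Q), P =
    ((powMonoidHom 2 : Abelianization ↥(Cfsg.isometryGroup F Q) →* _).ker).comap
      Abelianization.of := ⟨_, rfl⟩
  have hmemP : ∀ z : ↥(Cfsg.isometryGroup F Q), z ∈ P ↔ z * z ∈ commutator _ := by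
    intro z
    rw [hP, Subgroup.mem_comap, MonoidHom.mem_ker, powMonoidHom_apply, ← map_pow, pow_two,
      ← Abelianization.ker_of, MonoidHom.mem_ker]
  have hle : Cfsg.Agent.H9.Orth.RR hQ ≤ P.map (Cfsg.isometryGroup F Q).subtype := by
    unfold Cfsg.Agent.H9.Orth.RR
    rw [Subgroup.closure_le]
    rintro _ ⟨x, rfl⟩
    rw [SetLike.mem_coe, Subgroup.mem_map]
    refine ⟨⟨Cfsg.Agent.H9.Orth.rf hQ x, Cfsg.Agent.H9.Orth.rf_mem hQ x⟩, ?_, rfl⟩
    rw [hmemP]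
    have e : (⟨Cfsg.Agent.H9.Orth.rf hQ x, Cfsg.Agent.H9.Orth.rf_mem hQ x⟩ :
        ↥(Cfsg.isometryGroup F Q)) * ⟨Cfsg.Agent.H9.Orth.rf hQ x,
          Cfsg.Agent.H9.Orth.rf_mem hQ x⟩ = 1 := by
      apply Subtype.ext
      exact Cfsg.Agent.H9.Orth.rf_mul_self hQ x
    rw [e]
    exact one_mem _
  have hy : (y : GL ι F) ∈ Cfsg.Agent.H9.Orth.RR hQ := by
    rw [← Cfsg.Agent.H9.Orth.iso_eq_RR hQ h]
    exact y.2
  obtain ⟨y', hy', e⟩ := Subgroup.mem_map.1 (hle hy)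
  have e' : y' = y := Subtype.ext e
  rw [e', hmemP] at hy'
  exact hy'

end squares

variable {m : ℕ}

/-- squares of special orthogonal matrices lie in `Ω` -/
theorem sq_mem_OmS {F₀ : Type*} [Field F₀] [Fintype F₀] (C₀ : OCtx (2 * m + 1) F₀)
    (u : SOm (2 * m + 1) F₀) : u * u ∈ OmS (2 * m + 1) F₀ := by
  apply C₀.mem_OmS_of
  have h2 := C₀.h2
  set y : ↥(Cfsg.isometryGroup F₀ (Cfsg.quadFormOdd m F₀)) :=
    (oIso h2 m).symm (u : ↥(UH (2 * m + 1) F₀ (RingHom.id F₀))) with hy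
  have h1 : y * y ∈ commutator ↥(Cfsg.isometryGroup F₀ (Cfsg.quadFormOdd m F₀)) := by
    apply sq_mem_commutator_iso (Cfsg.Agent.H9.Orth.isNondeg_quadFormOdd m h2)
    right
    simp only [Fintype.card_sum, Fintype.card_unit, Fintype.card_fin]
    have := C₀.hN
    omega
  have h3 : oIso h2 m (y * y) ∈ commutator ↥(UH (2 * m + 1) F₀ (RingHom.id F₀)) := by
    rw [← map_commutator_top (oIso h2 m)]
    exact ⟨_, h1, rfl⟩
  rw [map_mul, hy, MulEquiv.apply_symm_apply] at h3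
  exact h3

/-- `Ω_{2m+1}(F₀)` is simple -/
theorem isSimple_Omm {F₀ : Type*} [Field F₀] [Fintype F₀] (h2 : (2 : F₀) ≠ 0) (hm : 3 ≤ m) :
    IsSimpleGroup (Omm (2 * m + 1) F₀) := by
  have hodd : Odd (Fintype.card F₀) := by
    rw [← Nat.not_even_iff_odd]
    intro he
    have h3 : ringChar F₀ = 2 := FiniteField.even_card_iff_char_two.2 (Nat.even_iff.1 he)
    haveI : CharP F₀ 2 := ringChar.of_eq h3
    exact h2 (CharTwo.two_eq_zero)
  have := Cfsg.Agent.S0295.result hodd m hm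
  exact (MulEquiv.ofBijective (fOm h2 m) ⟨fOm_injective h2 hm, fOm_surjective h2⟩).isSimpleGroup

/-- an involution in `Ω` -/
theorem exists_involution {N : ℕ} {F₀ : Type*} [Field F₀] [Fintype F₀] (C₀ : OCtx N F₀) :
    ∃ s : Omm N F₀, s ≠ 1 ∧ s * s = 1 := by
  have hN := C₀.hN
  have hj : 2 * 0 + 4 ≤ N := by omega
  have hne : (-1 : F₀) ≠ 0 := neg_ne_zero.2 one_ne_zero
  have hmem : Cfsg.Agent.AutPO.sO 0 hj (Cfsg.Agent.AutPSU.dgT (-1 : F₀) hne) ∈ OmS N F₀ :=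
    sl2_hom_mem (Cfsg.Agent.AutPO.sO 0 hj) (OmS N F₀)
      (fun t => by
        rw [Cfsg.Agent.AutPO.sO_upT]
        exact C₀.Xp_le_OmS 0 (xpS_mem_Xp Cfsg.Agent.AutPO.idInv 0 hj t))
      (fun t => by
        rw [Cfsg.Agent.AutPO.sO_loT]
        exact C₀.Xm_le_OmS 0 (xmS_mem_Xm Cfsg.Agent.AutPO.idInv 0 hj t)) _
  refine ⟨⟨_, hmem⟩, ?_, ?_⟩
  · intro e
    have e1 := congrArg (fun s : Omm N F₀ =>
      ((glo s : GL (Fin N) F₀) : Matrix (Fin N) (Fin N) F₀)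
        (Cfsg.Agent.AutPSU.ix N 0 (by omega)) (Cfsg.Agent.AutPSU.ix N 0 (by omega))) e
    simp only [glo_one, Units.val_one, Matrix.one_apply_eq] at e1
    rw [glo_eq] at e1
    have e2 : gl (Cfsg.Agent.AutPO.sO 0 hj (Cfsg.Agent.AutPSU.dgT (-1 : F₀) hne))
        = Cfsg.Agent.AutPSU.shortGL (RingHom.id F₀) (Cfsg.Agent.AutPSU.quad 0 hj)
          (Cfsg.Agent.AutPSU.dgT (-1 : F₀) hne) := Cfsg.Agent.AutPO.gl_sO 0 hj _
    rw [e2, Cfsg.Agent.AutPSU.shortGL_dgT, dgU_coe, Matrix.diagonal_apply_eq,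
      Cfsg.Agent.AutPSU.shortD_i₀] at e1
    apply C₀.h2
    have : (2 : F₀) = 1 - (-1) := by ring
    rw [this, e1, sub_self]
  · apply Subtype.ext
    show Cfsg.Agent.AutPO.sO 0 hj _ * Cfsg.Agent.AutPO.sO 0 hj _ = 1
    rw [← map_mul]
    have e : Cfsg.Agent.AutPSU.dgT (-1 : F₀) hne * Cfsg.Agent.AutPSU.dgT (-1 : F₀) hne = 1 := by
      apply Subtype.ext
      rw [Matrix.SpecialLinearGroup.coe_mul, Matrix.SpecialLinearGroup.coe_one]
      simp [Cfsg.Agent.AutPSU.dgT, Matrix.mul_fin_two, Matrix.one_fin_two]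
    rw [e, map_one]

end Cfsg.Agent.Lib.Helper8.Bal
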