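import Cfsg.Agent.Lib.Helper8.Bal.MapOm
import Cfsg.Agent.Lib.Helper8.AutOm.FactsE
import Cfsg.Agent.Lib.Helper5.AutSU.Gen3
import Mathlib

/-!
# Matrices commuting with the root elements with parameters in the prime field (helper8)
-/

set_option autoImplicit false

namespace Cfsg.Agent.Lib.Helper8.Bal

open Matrix Cfsg Cfsg.Agent.Lib.Helper5.GLBN Cfsg.Agent.Lib.Helper8.SpBN
open Cfsg.Agent.Lib.Helper8.Tw Cfsg.Agent.PSUT Cfsg.Agent.Lib.Helper5.AutSU
open Cfsg.Agent.Lib.Helper8.AutOm
open scoped MatrixGroups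

variable {N : ℕ} {F : Type*} [Field F]

theorem exists_ne4 (hN : 5 ≤ N) (x y z w : Fin N) :
    ∃ b : Fin N, b ≠ x ∧ b ≠ y ∧ b ≠ z ∧ b ≠ w := by
  classical
  by_contra h
  push_neg at h
  have hsub : (Finset.univ : Finset (Fin N)) ⊆ {x, y, z, w} := by
    intro b _
    simp only [Finset.mem_insert, Finset.mem_singleton]
    by_contra hb
    push_neg at hb
    exact hb.2.2.2 (h b hb.1 hb.2.1 hb.2.2.1)
  have h1 := Finset.card_le_card hsub
  rw [Finset.card_univ, Fintype.card_fin] at h1
  have h2 : ({x, y, z, w} : Finset (Fin N)).card ≤ 4 := Finset.card_le_four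
  omega

theorem rev_fix_unique {x y : Fin N} (hx : x.rev = x) (hy : y.rev = y) : x = y := by
  apply Fin.ext
  have h1 := congrArg Fin.val hx
  have h2 := congrArg Fin.val hy
  rw [Fin.val_rev] at h1 h2
  omega

theorem ne_rev_of_ne_rev {a b : Fin N} (h : a ≠ b.rev) : b ≠ a.rev := by
  intro e
  apply h
  rw [e, Fin.rev_rev]

section comm

variable (A : Matrix (Fin N) (Fin N) F) (a b : Fin N) (hab : a ≠ b) (h1 : a ≠ b.rev)
  (h3 : b ≠ b.rev)
  (h : A * ((xS (RingHom.id F) a b hab 1 : GL (Fin N) F) : Matrix (Fin N) (Fin N) F)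
    = ((xS (RingHom.id F) a b hab 1 : GL (Fin N) F) : Matrix (Fin N) (Fin N) F) * A)

include h1 h3 h

theorem comm_xS_col (i : Fin N) (hi : i ≠ a) (hi' : i ≠ b.rev) : A i a = 0 := by
  have e := congrFun (congrFun h i) b
  rw [mul_xS_apply _ _ _ _ _ h3, xS_mul_apply_other _ _ _ _ _ _ _ _ hi hi', if_pos rfl,
    if_neg (ne_rev_of_ne_rev h1), add_zero, mul_one] at e
  exact add_left_cancel (a := A i b) (by rw [e, add_zero])

theorem comm_xS_diag : A a a = A b b := by
  have e := congrFun (congrFun h a) b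
  rw [mul_xS_apply _ _ _ _ _ h3, xS_mul_apply_row _ _ _ _ h1 h3, if_pos rfl,
    if_neg (ne_rev_of_ne_rev h1), add_zero, mul_one, one_mul] at e
  exact add_left_cancel e

theorem comm_xS_row (k : Fin N) (hk : k ≠ b) (hk' : k ≠ a.rev) : A b k = 0 := by
  have e := congrFun (congrFun h a) k
  rw [mul_xS_apply _ _ _ _ _ h3, xS_mul_apply_row _ _ _ _ h1 h3, if_neg hk, if_neg hk', add_zero,
    add_zero, one_mul] at e
  exact (add_left_cancel (a := A a k) (by rw [← e, add_zero])).symm

end comm

/-- **a matrix commuting with the root elements with parameter one (and with one root element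
of the last node) is scalar** -/
theorem scalar_of_comm_root (hN : 7 ≤ N) (h2 : (2 : F) ≠ 0) (A : Matrix (Fin N) (Fin N) F)
    (hS : ∀ (a b : Fin N) (hab : a ≠ b), a ≠ b.rev → a ≠ a.rev → b ≠ b.rev →
      A * ((xS (RingHom.id F) a b hab 1 : GL (Fin N) F) : Matrix (Fin N) (Fin N) F)
        = ((xS (RingHom.id F) a b hab 1 : GL (Fin N) F) : Matrix (Fin N) (Fin N) F) * A)
    (k mid : Fin N) (hkm : k ≠ mid) (hmk : mid ≠ k.rev) (hk : k ≠ k.rev) (hmid : mid.rev = mid)
    (hO : A * ((xO (RingHom.id F) k mid hkm hmk hk 2 (-2) : GL (Fin N) F) :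
          Matrix (Fin N) (Fin N) F)
        = ((xO (RingHom.id F) k mid hkm hmk hk 2 (-2) : GL (Fin N) F) :
          Matrix (Fin N) (Fin N) F) * A) :
    ∃ c : F, A = Matrix.diagonal fun _ => c := by
  have hnm : ∀ x : Fin N, x ≠ mid → x ≠ x.rev := fun x hx e => hx (rev_fix_unique e.symm hmid)
  -- off-diagonal entries vanish
  have hoff : ∀ i j : Fin N, i ≠ j → A i j = 0 := by
    intro i j hij
    by_cases hj : j = mid
    · subst hj
      obtain ⟨a, ha1, ha2, ha3, -⟩ := exists_ne4 (by omega) i i.rev j j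
      have hai : a ≠ a.rev := hnm a ha3
      have hii : i ≠ i.rev := hnm i hij
      refine comm_xS_row A a i ha1 ha2 hii
        (hS a i ha1 ha2 hai hii) j hij.symm ?_
      intro e
      apply ha3
      rw [← Fin.rev_rev a, ← e, hmid]
    · obtain ⟨b, hb1, hb2, hb3, hb4⟩ := exists_ne4 (by omega) j j.rev i.rev mid
      have hjj : j ≠ j.rev := hnm j hj
      have hbb : b ≠ b.rev := hnm b hb4
      refine comm_xS_col A j b hb1.symm (ne_rev_of_ne_rev hb2) hbb
        (hS j b hb1.symm (ne_rev_of_ne_rev hb2) hjj hbb) i hij ?_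
      exact (ne_rev_of_ne_rev hb3)
  -- the diagonal entries away from the middle agree
  have hd1 : ∀ a b : Fin N, a ≠ mid → b ≠ mid → a ≠ b → a ≠ b.rev → A a a = A b b := by
    intro a b ha hb hab hab'
    exact comm_xS_diag A a b hab hab' (hnm b hb) (hS a b hab hab' (hnm a ha) (hnm b hb))
  have hd2 : ∀ a : Fin N, a ≠ mid → A a a = A k k := by
    intro a ha
    by_cases e1 : a = k
    · rw [e1]
    by_cases e2 : a = k.rev
    · obtain ⟨c, hc1, hc2, hc3, -⟩ := exists_ne4 (by omega) k k.rev mid mid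
      rw [hd1 a c ha hc3 (by rw [e2]; exact hc2.symm)
        (by rw [e2]; intro e; exact hc1 (Fin.rev_injective e).symm),
        ← hd1 k c hkm hc3 hc1.symm (ne_rev_of_ne_rev hc2)]
    · exact hd1 a k ha hkm e1 e2
  -- the middle entry
  have hd3 : A k k = A mid mid := by
    have hdiag : A = Matrix.diagonal fun i => A i i := by
      ext i j
      by_cases hij : i = j
      · subst hij
        rw [Matrix.diagonal_apply_eq]
      · rw [Matrix.diagonal_apply_ne _ hij, hoff i j hij]
    have e := congrFun (congrFun hO k) mid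
    rw [hdiag, Matrix.diagonal_mul, Matrix.mul_diagonal, xO_apply] at e
    simp only [hkm, if_false, hmk.symm, and_false, and_self, if_true, zero_add, add_zero] at e
    rw [mul_comm] at e
    exact mul_left_cancel₀ h2 e
  refine ⟨A mid mid, ?_⟩
  ext i j
  by_cases hij : i = j
  · subst hij
    rw [Matrix.diagonal_apply_eq]
    by_cases hi : i = mid
    · rw [hi]
    · rw [hd2 i hi, hd3]
  · rw [Matrix.diagonal_apply_ne _ hij, hoff i j hij]

end Cfsg.Agent.Lib.Helper8.Bal
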