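import Cfsg.Agent.Lib.Helper8.Bal.MainO
import Cfsg.Agent.S2735
import Mathlib

/-!
# Local balance for `Ω_{2m+1}` (S2731): assembly (helper8)
-/

set_option autoImplicit false

namespace Cfsg.Agent.Lib.Helper8.Bal

open Matrix Cfsg Cfsg.Agent.Lib.Helper8.AutOm Cfsg.Agent.Lib.H7AutPO Cfsg.Agent.Lib.H7AutPSp
open Cfsg.Agent.Lib.Helper8.AutSp

universe u

variable {m : ℕ} {F : Type u} [Field F] [Fintype F]

/-- the order of the field automorphism -/
theorem sigma_pow_of_class (h2 : (2 : F) ≠ 0) (hm : 3 ≤ m) {p : ℕ}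
    (x α : MulAut (Cfsg.POmega F (Cfsg.quadFormOdd m F))) (σ : RingAut F)
    (hα : α * x * α⁻¹ = PhO (fieldCompat_odd m) σ) (hord : orderOf x = p) : σ ^ p = 1 := by
  apply eq_one_of_PhO_mem_range_odd h2 hm
  rw [map_pow, ← hα]
  have : (α * x * α⁻¹) ^ p = 1 := by
    rw [← MulAut.conj_apply, ← map_pow, ← hord, pow_orderOf_eq_one, map_one]
  rw [this]
  exact one_mem _

/-- transport of the main argument to an arbitrary field automorphism -/
theorem core_trivial_class_O (hodd : Odd (Fintype.card F)) (hm : 3 ≤ m)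
    {p : ℕ} [Fact p.Prime] (x : MulAut (Cfsg.POmega F (Cfsg.quadFormOdd m F)))
    (hx : Cfsg.IsFieldAutClassPOmega (Cfsg.quadFormOdd m F) x) (hord : orderOf x = p)
    (W : Subgroup (MulAut (Cfsg.POmega F (Cfsg.quadFormOdd m F))))
    (hWcop : (Nat.card ↥W).Coprime p)
    (hWcent : ∀ w ∈ W, w * x = x * w)
    (hWnorm : ∀ k : Cfsg.POmega F (Cfsg.quadFormOdd m F), x k = k →
      ∀ w ∈ W, MulAut.conj k * w * (MulAut.conj k)⁻¹ ∈ W)
    (hdiv : p ∣ Nat.card ↥(fixG x)) : W = ⊥ := by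
  have h2 : (2 : F) ≠ 0 := two_ne_zero_of_odd hodd
  obtain ⟨α, σ, -, hα⟩ := field_data_O x hx
  have hσp : σ ^ p = 1 := sigma_pow_of_class h2 hm x α σ hα hord
  refine core_trivial_transport x (PhO (fieldCompat_odd m) σ) α hα ?_ W hWcop hWcent hWnorm
  intro W' h1 h3 h4
  apply core_trivial_field_O hodd hm σ hσp W' h1 h3 h4
  rw [card_fixG_conj x _ α hα]
  exact hdiv

/-- the fixed points of a field automorphism are nontrivial -/
theorem fixG_ne_bot_of_class_O (hodd : Odd (Fintype.card F)) (hm : 3 ≤ m)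
    (x : MulAut (Cfsg.POmega F (Cfsg.quadFormOdd m F)))
    (hx : Cfsg.IsFieldAutClassPOmega (Cfsg.quadFormOdd m F) x) : fixG x ≠ ⊥ := by
  classical
  have h2 : (2 : F) ≠ 0 := two_ne_zero_of_odd hodd
  obtain ⟨α, σ, -, hα⟩ := field_data_O x hx
  haveI : Fintype ↥(fixSub σ) := Fintype.ofFinite _
  have C₀ : OCtx (2 * m + 1) ↥(fixSub σ) := ⟨by omega, by omega, two_ne_zero_fix h2 σ⟩
  obtain ⟨s, hs1, -⟩ := exists_involution C₀
  have hj1 : jO h2 m σ s ≠ 1 := by
    intro e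
    apply hs1
    apply jO_injective h2 hm σ
    rw [e, map_one]
  intro hbot
  have hmem : α⁻¹ (jO h2 m σ s) ∈ fixG x := by
    rw [mem_fixG]
    have h1 : x = α⁻¹ * PhO (fieldCompat_odd m) σ * α := by
      rw [← hα]
      group
    rw [h1, MulAut.mul_apply, MulAut.mul_apply, MulAut.apply_inv_self, jO_fix]
  rw [hbot, Subgroup.mem_bot] at hmem
  apply hj1
  have := congrArg α hmem
  rw [MulAut.apply_inv_self, map_one] at this
  exact this

/-- **non-inner-diagonal automorphisms of prime order are field automorphisms** -/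
theorem isFieldClass_of_not_inndiag_O (hodd : Odd (Fintype.card F)) (hm : 3 ≤ m)
    {p : ℕ} [Fact p.Prime] (x : MulAut (Cfsg.POmega F (Cfsg.quadFormOdd m F)))
    (hord : orderOf x = p) (hnot : ¬ Cfsg.IsInnerDiagonalAutPOmegaOdd m x) :
    Cfsg.IsFieldAutClassPOmega (Cfsg.quadFormOdd m F) x := by
  have hp : p.Prime := Fact.out
  have h2 : (2 : F) ≠ 0 := two_ne_zero_of_odd hodd
  have hc := fieldCompat_odd (F := F) m
  have hxp : x ^ p = 1 := by rw [← hord]; exact pow_orderOf_eq_one x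
  obtain ⟨g, τ, -, hgτ⟩ := fac_decomp hc (fun β => FacO_core hodd hm β) x
  have hτ1 : τ ≠ 1 := by
    rintro rfl
    apply hnot
    show Cfsg.IsSimilarityInducedAutPOmega (Cfsg.quadFormOdd m F) x
    rw [similarityO_iff]
    exact ⟨g, by rw [hgτ, map_one, mul_one]⟩
  have hτp : τ ^ p = 1 := by
    apply eq_one_of_PhO_mem_range_odd h2 hm
    have h1 := coset_pow_O hc τ g p
    rw [← hgτ, hxp] at h1
    refine ⟨(gnormO hc τ g p)⁻¹, ?_⟩
    rw [map_inv]
    exact inv_eq_of_mul_eq_one_right h1.symm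
  have hφ1 : (PhO hc τ : MulAut (Cfsg.POmega F (Cfsg.quadFormOdd m F))) ≠ 1 := by
    intro h
    apply hτ1
    apply eq_one_of_PhO_mem_range_odd h2 hm
    rw [h]
    exact one_mem _
  have hφord : orderOf (PhO hc τ : MulAut (Cfsg.POmega F (Cfsg.quadFormOdd m F))) = p := by
    apply orderOf_eq_prime _ hφ1
    rw [← map_pow, hτp, map_one]
  have hφclass : Cfsg.IsFieldAutClassPOmega (Cfsg.quadFormOdd m F) (PhO hc τ) := by
    refine ⟨1, PhO hc τ, τ, hτ1, (fieldO_iff hc τ _).2 rfl, ?_⟩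
    rw [one_mul, inv_one, mul_one]
  have hδ : (DhO (Cfsg.quadFormOdd m F) g) ∈ Cfsg.inndiagPOmegaOdd m F := by
    rw [inndiag_odd_eq]
    exact ⟨g, rfl⟩
  have key := (Cfsg.Agent.S2735.result hodd hm (PhO hc τ) (DhO _ g) hφclass hp hφord hδ).1
    (by rw [← hgτ]; exact hord)
  obtain ⟨h, -, hh⟩ := key
  refine ⟨h⁻¹, PhO hc τ, τ, hτ1, (fieldO_iff hc τ _).2 rfl, ?_⟩
  rw [hgτ, hh]
  group

end Cfsg.Agent.Lib.Helper8.Bal
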