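import Cfsg.Agent.Lib.Helper8.Bal.CentO
import Cfsg.Agent.Lib.Helper8.AutOm.FacO
import Cfsg.Agent.Lib.Helper7.AutPO.Fac
import Mathlib

/-!
# The model of `Ω_{2m+1}` and the induced automorphisms of `PΩ_{2m+1}` (helper8)

The centre of the model is trivial, the projection `fOm` is injective, and the standard field
automorphisms and the similarity-induced automorphisms are computed on the model.
-/

set_option autoImplicit false

namespace Cfsg.Agent.Lib.Helper8.Bal

open Matrix Cfsg Cfsg.Agent.Lib.Helper5.GLBN Cfsg.Agent.Lib.Helper8.SpBN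
open Cfsg.Agent.Lib.Helper8.Tw Cfsg.Agent.PSUT Cfsg.Agent.Lib.Helper5.AutSU
open Cfsg.Agent.Lib.Helper8.AutOm Cfsg.Agent.Lib.H7AutPO Cfsg.Agent.Lib.H7AutPSp
open scoped MatrixGroups

universe u

variable {N : ℕ} {F : Type u} [Field F]

/-! ### the centre of the model -/

theorem center_Omm_eq_bot [Fintype F] (C : OCtx N F) : Subgroup.center (Omm N F) = ⊥ := by
  rw [eq_bot_iff]
  intro z hz
  rw [Subgroup.mem_bot]
  obtain ⟨c, hc⟩ := C.center_scalar hz
  have hN := C.hN
  have hU := mem_UH_iff_mul.1 (glo_mem_UH z)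
  have hmap : ((glo z : GL (Fin N) F) : Matrix (Fin N) (Fin N) F).map (RingHom.id F)
      = ((glo z : GL (Fin N) F) : Matrix (Fin N) (Fin N) F) := by
    ext a b; rfl
  rw [hmap, hc, Matrix.diagonal_transpose] at hU
  have hcc : c * c = 1 := by
    have e := congrFun (congrFun hU (⟨0, by omega⟩ : Fin N)) (⟨0, by omega⟩ : Fin N).rev
    rw [Matrix.mul_diagonal, Matrix.diagonal_mul, RG_apply_rev, mul_one] at e
    exact e
  have hdet : c ^ N = 1 := by
    have e := glo_det z
    rw [hc, Matrix.det_diagonal, Finset.prod_const, Finset.card_univ, Fintype.card_fin] at e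
    exact e
  have hc1 : c = 1 := by
    obtain ⟨k, hk⟩ : ∃ k, N = 2 * k + 1 := ⟨N / 2, by have := C.hodd; omega⟩
    rw [hk, pow_succ, pow_mul, pow_two, hcc, one_pow, one_mul] at hdet
    exact hdet
  apply glo_injective
  apply Units.ext
  rw [hc, hc1, glo_one, Units.val_one, Matrix.diagonal_one]

variable {m : ℕ}

theorem fOm_injective [Fintype F] (h2 : (2 : F) ≠ 0) (hm : 3 ≤ m) :
    Function.Injective (fOm h2 m) := by
  have C : OCtx (2 * m + 1) F := ⟨by omega, by omega, h2⟩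
  rw [← MonoidHom.ker_eq_bot_iff, fOm_ker, center_Omm_eq_bot C]

/-! ### the standard field automorphisms on the model -/

theorem PhO_fOm (h2 : (2 : F) ≠ 0) (σ : RingAut F) (g : Omm (2 * m + 1) F) :
    PhO (fieldCompat_odd m) σ (fOm h2 m g)
      = fOm h2 m (omMap ((σ : F ≃+* F) : F →+* F) g) := by
  rw [fOm_apply, fOm_apply]
  show PhO (fieldCompat_odd m) σ (prC (eOm h2 m g)) = prC (eOm h2 m (omMap _ g))
  rw [PhO_pr]
  congr 1
  apply Subtype.ext
  apply Subtype.ext
  apply (oPhi h2 m).injective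
  rw [eOm_coe, commAut_val, fieldIso_val, glo_omMap]
  show oPhi h2 m (Matrix.GeneralLinearGroup.map ((σ : F ≃+* F) : F →+* F) _) = _
  rw [oPhi_map, eOm_coe]

/-- the automorphisms induced by the similarities, on the model -/
theorem DhO_fOm (h2 : (2 : F) ≠ 0)
    (g : ↥(Cfsg.Geo.quadSimilarityGroup (F := F) (Cfsg.quadFormOdd m F)))
    (s : Omm (2 * m + 1) F) :
    ∃ s' : Omm (2 * m + 1) F,
      glo s' = oPhi h2 m g.1 * glo s * (oPhi h2 m g.1)⁻¹ ∧
      DhO (Cfsg.quadFormOdd m F) g (fOm h2 m s) = fOm h2 m s' := by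
  refine ⟨(eOm h2 m).symm (commAut (conjIso (Cfsg.quadFormOdd m F) g) (eOm h2 m s)), ?_, ?_⟩
  · rw [← eOm_coe h2, MulEquiv.apply_symm_apply, commAut_val, conjIso_val, map_mul, map_mul,
      map_inv, eOm_coe]
  · rw [fOm_apply, fOm_apply, MulEquiv.apply_symm_apply]
    rfl

/-! ### general short root elements in the model -/

section root

variable [Fintype F]

/-- the short root elements, in `Ω` -/
noncomputable def xSo (C : OCtx N F) (a b : Fin N) (hab : a ≠ b) (h1 : a ≠ b.rev)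
    (h2 : a ≠ a.rev) (h3 : b ≠ b.rev) (c : F) : Omm N F :=
  ⟨mk1 (xS (RingHom.id F) a b hab c) (xS_mem_UH idinv a b hab h1 h2 h3 c) (det_xS _ a b hab c), by
    rcases lt_or_gt_of_ne hab with h | h
    · apply C.UU_le_OmS
      rw [mem_UU, gl_mk1]
      exact xS_isUpU h c
    · apply C.VV_le_OmS
      rw [mem_VV, gl_mk1]
      exact xS_isLoU h c⟩

theorem glo_xSo (C : OCtx N F) (a b : Fin N) (hab : a ≠ b) (h1 : a ≠ b.rev)
    (h2 : a ≠ a.rev) (h3 : b ≠ b.rev) (c : F) :
    glo (xSo C a b hab h1 h2 h3 c) = xS (RingHom.id F) a b hab c := rfl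

end root

/-! ### extension of scalars on the root elements -/

section mapRoot

variable {F₀ : Type*} [Field F₀]

theorem glMap_tv' (ι : F₀ →+* F) (a b : Fin N) (hab : a ≠ b) (c : F₀) :
    Matrix.GeneralLinearGroup.map ι (tv a b hab c) = tv a b hab (ι c) := by
  apply Units.ext
  ext i j
  rw [glMap_val, tv_coe, tv_coe, Matrix.map_apply, transvection_apply, transvection_apply,
    map_add]
  congr 1
  · split_ifs <;> simp
  · split_ifs <;> simp

theorem glMap_xS (ι : F₀ →+* F) (a b : Fin N) (hab : a ≠ b) (c : F₀) :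
    Matrix.GeneralLinearGroup.map ι (xS (RingHom.id F₀) a b hab c)
      = xS (RingHom.id F) a b hab (ι c) := by
  unfold xS
  rw [map_mul, glMap_tv', glMap_tv', RingHom.id_apply, RingHom.id_apply, map_neg]

theorem glMap_xO (ι : F₀ →+* F) (k mid : Fin N) (hkm : k ≠ mid) (hmk : mid ≠ k.rev)
    (hk : k ≠ k.rev) (a b : F₀) :
    Matrix.GeneralLinearGroup.map ι (xO (RingHom.id F₀) k mid hkm hmk hk a b)
      = xO (RingHom.id F) k mid hkm hmk hk (ι a) (ι b) := by
  unfold xO
  rw [map_mul, map_mul, glMap_tv', glMap_tv', glMap_tv', RingHom.id_apply, RingHom.id_apply,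
    map_neg]

variable [Fintype F] [Fintype F₀]

theorem omMap_xSo (ι : F₀ →+* F) (C₀ : OCtx N F₀) (C : OCtx N F) (a b : Fin N) (hab : a ≠ b)
    (h1 : a ≠ b.rev) (h2 : a ≠ a.rev) (h3 : b ≠ b.rev) (c : F₀) :
    omMap ι (xSo C₀ a b hab h1 h2 h3 c) = xSo C a b hab h1 h2 h3 (ι c) := by
  apply glo_injective
  rw [glo_omMap, glo_xSo, glo_xSo, glMap_xS]

theorem omMap_xpOo (ι : F₀ →+* F) (C₀ : OCtx N F₀) (C : OCtx N F) (j : ℕ) (hj : 2 * j + 3 = N) :
    omMap ι (C₀.xpOo j hj 2 (-2) two_neg_two) = C.xpOo j hj 2 (-2) two_neg_two := by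
  apply glo_injective
  rw [glo_omMap, C₀.glo_xpOo, C.glo_xpOo, glMap_xO, map_neg, map_ofNat]

end mapRoot

end Cfsg.Agent.Lib.Helper8.Bal
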