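import Cfsg.Agent.Lib.Helper8.Bal.Abstract
import Cfsg.Agent.Lib.Helper8.Bal.SubO
import Cfsg.Agent.Lib.Helper7.AutPO.OutO
import Mathlib

/-!
# Local balance for `Ω_{2m+1}` (S2731): the main argument for a standard field automorphism
(helper8)
-/

set_option autoImplicit false

namespace Cfsg.Agent.Lib.Helper8.Bal

open Matrix Cfsg Cfsg.Agent.Lib.Helper5.GLBN Cfsg.Agent.Lib.Helper8.SpBN
open Cfsg.Agent.Lib.Helper8.Tw Cfsg.Agent.PSUT Cfsg.Agent.Lib.Helper5.AutSU
open Cfsg.Agent.Lib.Helper8.AutOm Cfsg.Agent.Lib.H7AutPO Cfsg.Agent.Lib.H7AutPSp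
open Cfsg.Agent.Lib.Helper8.AutSp
open scoped MatrixGroups

universe u

variable {m : ℕ} {F : Type u} [Field F]

/-- the subfield subgroup `Ω_{2m+1}(F₀) → PΩ_{2m+1}(F)`, `F₀` the fixed field of `σ` -/
noncomputable def jO (h2 : (2 : F) ≠ 0) (m : ℕ) (σ : RingAut F) :
    Omm (2 * m + 1) ↥(fixSub σ) →* Cfsg.POmega F (Cfsg.quadFormOdd m F) :=
  (fOm h2 m).comp (omMap (fixι σ))

theorem jO_apply (h2 : (2 : F) ≠ 0) (σ : RingAut F) (s : Omm (2 * m + 1) ↥(fixSub σ)) :
    jO h2 m σ s = fOm h2 m (omMap (fixι σ) s) := rfl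

/-- the subfield subgroup is fixed by the field automorphism -/
theorem jO_fix (h2 : (2 : F) ≠ 0) (σ : RingAut F) (s : Omm (2 * m + 1) ↥(fixSub σ)) :
    PhO (fieldCompat_odd m) σ (jO h2 m σ s) = jO h2 m σ s := by
  rw [jO_apply, PhO_fOm]
  congr 1
  apply glo_injective
  rw [glo_omMap, glo_omMap]
  apply Units.ext
  ext a b
  rw [glMap_apply, glMap_apply]
  exact fixι_fixed σ _

section fin

variable [Fintype F]

/-- the entries of a fixed point of the field automorphism are fixed -/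
theorem entries_fixed (h2 : (2 : F) ≠ 0) (hm : 3 ≤ m) (σ : RingAut F) (g : Omm (2 * m + 1) F)
    (hg : PhO (fieldCompat_odd m) σ (fOm h2 m g) = fOm h2 m g) (a b : Fin (2 * m + 1)) :
    σ (((glo g : GL (Fin (2 * m + 1)) F) : Matrix (Fin (2 * m + 1)) (Fin (2 * m + 1)) F) a b)
      = ((glo g : GL (Fin (2 * m + 1)) F) : Matrix (Fin (2 * m + 1)) (Fin (2 * m + 1)) F) a b := by
  rw [PhO_fOm] at hg
  have h1 := fOm_injective h2 hm hg
  have h3 := congrArg (fun s : Omm (2 * m + 1) F =>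
    ((glo s : GL (Fin (2 * m + 1)) F) : Matrix (Fin (2 * m + 1)) (Fin (2 * m + 1)) F) a b) h1
  simp only [glo_omMap, glMap_apply] at h3
  exact h3

/-- the subfield subgroup is normalised by the fixed points of the field automorphism -/
theorem jO_norm (h2 : (2 : F) ≠ 0) (hm : 3 ≤ m) (σ : RingAut F)
    (k : Cfsg.POmega F (Cfsg.quadFormOdd m F)) (hk : PhO (fieldCompat_odd m) σ k = k)
    (s : Omm (2 * m + 1) ↥(fixSub σ)) :
    ∃ s' : Omm (2 * m + 1) ↥(fixSub σ), jO h2 m σ s' = k * jO h2 m σ s * k⁻¹ := by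
  obtain ⟨g, rfl⟩ := fOm_surjective h2 k
  obtain ⟨s', hs'⟩ := exists_omMap_conj (fixι σ) g
    (fun a b => fixι_surj σ _ (entries_fixed h2 hm σ g hk a b)) s
  refine ⟨s', ?_⟩
  rw [jO_apply, hs', jO_apply, map_mul, map_mul, map_inv]

/-- a scalar element of the model is trivial -/
theorem eq_one_of_scalar (C : OCtx (2 * m + 1) F) (g : Omm (2 * m + 1) F) (c : F)
    (hc : ((glo g : GL (Fin (2 * m + 1)) F) : Matrix (Fin (2 * m + 1)) (Fin (2 * m + 1)) F)
      = Matrix.diagonal fun _ => c) : g = 1 := by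
  have hz : g ∈ Subgroup.center (Omm (2 * m + 1) F) := by
    rw [Subgroup.mem_center_iff]
    intro x
    apply glo_injective
    apply Units.ext
    rw [glo_mul, glo_mul, Units.val_mul, Units.val_mul, hc, ← Matrix.smul_one_eq_diagonal,
      Matrix.mul_smul, Matrix.smul_mul, Matrix.mul_one, Matrix.one_mul]
  rw [center_Omm_eq_bot C, Subgroup.mem_bot] at hz
  exact hz

/-- the data of commutation with the prime-field root elements -/
theorem scalar_of_comm_sub (h2 : (2 : F) ≠ 0) (hm : 3 ≤ m) (A : GL (Fin (2 * m + 1)) F)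
    (C : OCtx (2 * m + 1) F)
    (hS : ∀ (a b : Fin (2 * m + 1)) (hab : a ≠ b) (h1 : a ≠ b.rev) (h2' : a ≠ a.rev)
      (h3 : b ≠ b.rev), A * glo (xSo C a b hab h1 h2' h3 1) = glo (xSo C a b hab h1 h2' h3 1) * A)
    (hO : A * glo (C.xpOo (m - 1) (by omega) 2 (-2) two_neg_two)
      = glo (C.xpOo (m - 1) (by omega) 2 (-2) two_neg_two) * A) :
    ∃ c : F, (A : Matrix (Fin (2 * m + 1)) (Fin (2 * m + 1)) F) = Matrix.diagonal fun _ => c := by
  have hmid : ((⟨m - 1 + 1, by omega⟩ : Fin (2 * m + 1))).rev = ⟨m - 1 + 1, by omega⟩ := by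
    apply Fin.ext
    rw [Fin.val_rev]
    simp only
    omega
  refine scalar_of_comm_root (by omega) h2
    (A : Matrix (Fin (2 * m + 1)) (Fin (2 * m + 1)) F) ?_ (⟨m - 1, by omega⟩)
    (⟨m - 1 + 1, by omega⟩) (fin_ne (by simp))
    (fin_ne (by rw [val_rev_mk]; simp only; omega))
    (fin_ne (by rw [val_rev_mk]; simp only; omega)) hmid ?_
  · intro a b hab h1 h2' h3
    have := congrArg (fun x : GL (Fin (2 * m + 1)) F =>
      (x : Matrix (Fin (2 * m + 1)) (Fin (2 * m + 1)) F)) (hS a b hab h1 h2' h3)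
    simp only [Units.val_mul, glo_xSo] at this
    exact this
  · have := congrArg (fun x : GL (Fin (2 * m + 1)) F =>
      (x : Matrix (Fin (2 * m + 1)) (Fin (2 * m + 1)) F)) hO
    simp only [Units.val_mul, OCtx.glo_xpOo] at this
    exact this

theorem two_ne_zero_fix (h2 : (2 : F) ≠ 0) (σ : RingAut F) : (2 : ↥(fixSub σ)) ≠ 0 := by
  intro h
  apply h2
  have := congrArg (fixι σ) h
  rwa [map_ofNat, map_zero] at this

/-- the centraliser of the subfield subgroup is trivial -/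
theorem jO_cent (h2 : (2 : F) ≠ 0) (hm : 3 ≤ m) (σ : RingAut F)
    (k : Cfsg.POmega F (Cfsg.quadFormOdd m F))
    (hk : ∀ s : Omm (2 * m + 1) ↥(fixSub σ), k * jO h2 m σ s * k⁻¹ = jO h2 m σ s) : k = 1 := by
  classical
  haveI : Fintype ↥(fixSub σ) := Fintype.ofFinite _
  obtain ⟨g, rfl⟩ := fOm_surjective h2 k
  have C : OCtx (2 * m + 1) F := ⟨by omega, by omega, h2⟩
  have C₀ : OCtx (2 * m + 1) ↥(fixSub σ) := ⟨by omega, by omega, two_ne_zero_fix h2 σ⟩
  have hcomm : ∀ s : Omm (2 * m + 1) ↥(fixSub σ),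
      glo g * glo (omMap (fixι σ) s) = glo (omMap (fixι σ) s) * glo g := by
    intro s
    have h1 := hk s
    rw [jO_apply, ← map_inv, ← map_mul, ← map_mul] at h1
    have h3 := fOm_injective h2 hm h1
    have h4 : g * omMap (fixι σ) s = omMap (fixι σ) s * g := by
      calc g * omMap (fixι σ) s = g * omMap (fixι σ) s * g⁻¹ * g := by group
        _ = omMap (fixι σ) s * g := by rw [h3]
    rw [← glo_mul, ← glo_mul, h4]
  obtain ⟨c, hc⟩ := scalar_of_comm_sub h2 hm (glo g) C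
    (fun a b hab h1 h2' h3 => by
      have e : xSo C a b hab h1 h2' h3 1
          = omMap (fixι σ) (xSo C₀ a b hab h1 h2' h3 1) := by
        rw [omMap_xSo (fixι σ) C₀ C, map_one]
      rw [e]
      exact hcomm _)
    (by
      rw [← omMap_xpOo (fixι σ) C₀ C]
      exact hcomm _)
  rw [eq_one_of_scalar C g c hc, map_one]

/-- an automorphism fixing the subfield subgroup pointwise has `p`-th power one -/
theorem pow_eq_one_of_fix (hodd : Odd (Fintype.card F)) (hm : 3 ≤ m) (h2 : (2 : F) ≠ 0) {p : ℕ}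
    (σ : RingAut F) (hσ : σ ^ p = 1) (w : MulAut (Cfsg.POmega F (Cfsg.quadFormOdd m F)))
    (hw : ∀ s : Omm (2 * m + 1) ↥(fixSub σ), w (jO h2 m σ s) = jO h2 m σ s) : w ^ p = 1 := by
  classical
  haveI : Fintype ↥(fixSub σ) := Fintype.ofFinite _
  have C : OCtx (2 * m + 1) F := ⟨by omega, by omega, h2⟩
  have C₀ : OCtx (2 * m + 1) ↥(fixSub σ) := ⟨by omega, by omega, two_ne_zero_fix h2 σ⟩
  obtain ⟨g, τ, -, rfl⟩ := fac_decomp (fieldCompat_odd m) (fun β => FacO_core hodd hm β) w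
  obtain ⟨A, hA⟩ : ∃ A : GL (Fin (2 * m + 1)) F, A = oPhi h2 m g.1 := ⟨_, rfl⟩
  have key : ∀ s₁ : Omm (2 * m + 1) ↥(fixSub σ),
      omMap ((τ : F ≃+* F) : F →+* F) (omMap (fixι σ) s₁) = omMap (fixι σ) s₁ →
      A * glo (omMap (fixι σ) s₁) = glo (omMap (fixι σ) s₁) * A := by
    intro s₁ hτ
    have h1 := hw s₁
    rw [jO_apply, MulAut.mul_apply, PhO_fOm, hτ] at h1
    obtain ⟨s', hs', hD⟩ := DhO_fOm h2 g (omMap (fixι σ) s₁)
    rw [hD] at h1
    have h3 := fOm_injective h2 hm h1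
    rw [h3, ← hA] at hs'
    calc A * glo (omMap (fixι σ) s₁)
        = A * glo (omMap (fixι σ) s₁) * A⁻¹ * A := by group
      _ = glo (omMap (fixι σ) s₁) * A := by rw [← hs']
  obtain ⟨c, hc⟩ := scalar_of_comm_sub h2 hm A C
    (fun a b hab h1 h2' h3 => by
      have e : xSo C a b hab h1 h2' h3 1
          = omMap (fixι σ) (xSo C₀ a b hab h1 h2' h3 1) := by
        rw [omMap_xSo (fixι σ) C₀ C, map_one]
      rw [e]
      apply key
      rw [← e, omMap_xSo ((τ : F ≃+* F) : F →+* F) C C, map_one])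
    (by
      rw [← omMap_xpOo (fixι σ) C₀ C]
      apply key
      rw [omMap_xpOo (fixι σ) C₀ C, omMap_xpOo ((τ : F ≃+* F) : F →+* F) C C])
  -- the similarity acts trivially
  have hD1 : DhO (Cfsg.quadFormOdd m F) g = 1 := by
    ext k
    obtain ⟨s, rfl⟩ := fOm_surjective h2 k
    obtain ⟨s', hs', hD⟩ := DhO_fOm h2 g s
    rw [hD, MulAut.one_apply]
    congr 1
    apply glo_injective
    rw [hs', ← hA]
    have hAs : A * glo s = glo s * A := by
      apply Units.ext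
      rw [Units.val_mul, Units.val_mul, hc, ← Matrix.smul_one_eq_diagonal, Matrix.smul_mul,
        Matrix.mul_smul, Matrix.one_mul, Matrix.mul_one]
    rw [hAs, mul_inv_cancel_right]
  rw [hD1, one_mul] at hw ⊢
  -- the field automorphism fixes the fixed field of `σ`
  have hτ : ∀ t : F, σ t = t → τ t = t := by
    intro t ht
    have n1 : (⟨0, by omega⟩ : Fin (2 * m + 1)) ≠ ⟨1, by omega⟩ := fin_ne (by simp)
    have n2 : (⟨0, by omega⟩ : Fin (2 * m + 1)) ≠ (⟨1, by omega⟩ : Fin (2 * m + 1)).rev :=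
      fin_ne (by rw [val_rev_mk]; simp only; omega)
    have n3 : (⟨0, by omega⟩ : Fin (2 * m + 1)) ≠ (⟨0, by omega⟩ : Fin (2 * m + 1)).rev :=
      fin_ne (by rw [val_rev_mk]; simp only; omega)
    have n4 : (⟨1, by omega⟩ : Fin (2 * m + 1)) ≠ (⟨1, by omega⟩ : Fin (2 * m + 1)).rev :=
      fin_ne (by rw [val_rev_mk]; simp only; omega)
    have h1 := hw (xSo C₀ _ _ n1 n2 n3 n4 ⟨t, ht⟩)
    rw [jO_apply, PhO_fOm] at h1
    have h3 := fOm_injective h2 hm h1
    rw [omMap_xSo (fixι σ) C₀ C, omMap_xSo ((τ : F ≃+* F) : F →+* F) C C] at h3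
    have h4 := congrArg (fun s : Omm (2 * m + 1) F =>
      ((glo s : GL (Fin (2 * m + 1)) F) : Matrix (Fin (2 * m + 1)) (Fin (2 * m + 1)) F)
        ⟨0, by omega⟩ ⟨1, by omega⟩) h3
    simp only [glo_xSo] at h4
    rw [xS_apply_self _ _ _ _ n4 n2.symm, xS_apply_self _ _ _ _ n4 n2.symm] at h4
    exact h4
  have hτz := mem_zpowers_of_fix σ τ hτ
  obtain ⟨n, rfl⟩ := Subgroup.mem_zpowers_iff.1 hτz
  rw [← map_pow, ← zpow_natCast, ← _root_.zpow_mul, mul_comm, _root_.zpow_mul, zpow_natCast, hσ,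
    _root_.one_zpow, map_one]

theorem jO_injective (h2 : (2 : F) ≠ 0) (hm : 3 ≤ m) (σ : RingAut F) :
    Function.Injective (jO h2 m σ) := by
  intro s t e
  rw [jO_apply, jO_apply] at e
  exact omMap_injective _ (fOm_injective h2 hm e)

/-- an element of order `p` in the subfield subgroup -/
theorem exists_order_p (h2 : (2 : F) ≠ 0) (hm : 3 ≤ m) {p : ℕ} [Fact p.Prime] (σ : RingAut F)
    (hdiv : p ∣ Nat.card ↥(fixG (PhO (fieldCompat_odd m) σ :
      MulAut (Cfsg.POmega F (Cfsg.quadFormOdd m F))))) :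
    ∃ s : Omm (2 * m + 1) ↥(fixSub σ), orderOf (jO h2 m σ s) = p := by
  classical
  haveI : Fintype ↥(fixSub σ) := Fintype.ofFinite _
  have hp : p.Prime := Fact.out
  have C₀ : OCtx (2 * m + 1) ↥(fixSub σ) := ⟨by omega, by omega, two_ne_zero_fix h2 σ⟩
  by_cases hp2 : p = 2
  · obtain ⟨s, hs1, hs2⟩ := exists_involution C₀
    refine ⟨s, ?_⟩
    rw [orderOf_injective _ (jO_injective h2 hm σ), hp2]
    exact orderOf_eq_prime (by rw [pow_two]; exact hs2) hs1
  · obtain ⟨y, hy⟩ := exists_prime_orderOf_dvd_card' (G := ↥(fixG (PhO (fieldCompat_odd m) σ :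
      MulAut (Cfsg.POmega F (Cfsg.quadFormOdd m F))))) p hdiv
    have hyord : orderOf (y : Cfsg.POmega F (Cfsg.quadFormOdd m F)) = p := by
      rw [← hy]
      exact (Subgroup.orderOf_coe y)
    obtain ⟨g, hg⟩ := fOm_surjective h2 (y : Cfsg.POmega F (Cfsg.quadFormOdd m F))
    have hyfix : PhO (fieldCompat_odd m) σ (fOm h2 m g) = fOm h2 m g := by
      rw [hg]
      exact y.2
    obtain ⟨u₀, hu₀⟩ := exists_suMap_eq (fixι σ) (g : SOm (2 * m + 1) F)
      (fun a b => fixι_surj σ _ (entries_fixed h2 hm σ g hyfix a b))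
    refine ⟨⟨u₀ * u₀, sq_mem_OmS C₀ u₀⟩, ?_⟩
    have e : omMap (fixι σ) ⟨u₀ * u₀, sq_mem_OmS C₀ u₀⟩ = g * g := by
      apply Subtype.ext
      rw [omMap_coe]
      show suMap (fixι σ) (u₀ * u₀) = (g : SOm (2 * m + 1) F) * (g : SOm (2 * m + 1) F)
      rw [map_mul, hu₀]
    rw [jO_apply, e, map_mul, hg, ← pow_two]
    have hcop : (orderOf (y : Cfsg.POmega F (Cfsg.quadFormOdd m F))).Coprime 2 := by
      rw [hyord]
      exact (Nat.coprime_primes hp Nat.prime_two).2 hp2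
    rw [hcop.orderOf_pow, hyord]

/-- **Main argument for `Ω_{2m+1}`.** -/
theorem core_trivial_field_O (hodd : Odd (Fintype.card F)) (hm : 3 ≤ m)
    {p : ℕ} [Fact p.Prime] (σ : RingAut F) (hσ : σ ^ p = 1)
    (W : Subgroup (MulAut (Cfsg.POmega F (Cfsg.quadFormOdd m F))))
    (hWcop : (Nat.card ↥W).Coprime p)
    (hWcent : ∀ w ∈ W, w * PhO (fieldCompat_odd m) σ = PhO (fieldCompat_odd m) σ * w)
    (hWnorm : ∀ k : Cfsg.POmega F (Cfsg.quadFormOdd m F), PhO (fieldCompat_odd m) σ k = k →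
      ∀ w ∈ W, MulAut.conj k * w * (MulAut.conj k)⁻¹ ∈ W)
    (hdiv : p ∣ Nat.card ↥(fixG (PhO (fieldCompat_odd m) σ :
      MulAut (Cfsg.POmega F (Cfsg.quadFormOdd m F))))) :
    W = ⊥ := by
  classical
  haveI : Fintype ↥(fixSub σ) := Fintype.ofFinite _
  have h2 : (2 : F) ≠ 0 := two_ne_zero_of_odd hodd
  have hZ : Subgroup.center (Cfsg.POmega F (Cfsg.quadFormOdd m F)) = ⊥ := by
    apply center_pomega (Cfsg.Agent.H9.Orth.isNondeg_quadFormOdd m h2)
    simp only [Fintype.card_sum, Fintype.card_unit, Fintype.card_fin]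
    omega
  have hsimple : IsSimpleGroup (Omm (2 * m + 1) ↥(fixSub σ)) :=
    isSimple_Omm (two_ne_zero_fix h2 σ) hm
  obtain ⟨s, hs⟩ := exists_order_p h2 hm σ hdiv
  refine core_trivial_abstract hZ (PhO (fieldCompat_odd m) σ) (jO h2 m σ) (jO_fix h2 σ)
    (jO_norm h2 hm σ) ⊤ ?_ (jO_cent h2 hm σ) W hWcop hWcent hWnorm
    (fun w _ hw => pow_eq_one_of_fix hodd hm h2 σ hσ w hw) ⟨s, Subgroup.mem_top s, hs⟩
  intro N hN
  rcases hN.eq_bot_or_eq_top with h | h
  · left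
    intro n hn
    rw [h, Subgroup.mem_bot] at hn
    rw [hn, map_one]
  · right
    rw [h]

end fin

end Cfsg.Agent.Lib.Helper8.Bal
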