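import Cfsg.Agent.Lib.Helper8.AutOm.Defs
import Mathlib

/-!
# Extension of scalars for the model of `Ω_N` (helper8)

`suMap ι : SO_N(F₀) → SO_N(F)` and `omMap ι : Ω_N(F₀) → Ω_N(F)` for a homomorphism of fields
`ι : F₀ → F` (entrywise), with the descent of matrices whose entries lie in the image of `ι`.
-/

set_option autoImplicit false

namespace Cfsg.Agent.Lib.Helper8.Bal

open Matrix Cfsg Cfsg.Agent.Lib.Helper5.GLBN Cfsg.Agent.Lib.Helper8.SpBN
open Cfsg.Agent.Lib.Helper8.Tw Cfsg.Agent.PSUT Cfsg.Agent.Lib.Helper5.AutSU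
open Cfsg.Agent.Lib.Helper8.AutOm
open scoped MatrixGroups commutatorElement

variable {N : ℕ} {F : Type*} [Field F] {F₀ : Type*} [Field F₀]

theorem glMap_val (ι : F₀ →+* F) (g : GL (Fin N) F₀) :
    ((Matrix.GeneralLinearGroup.map ι g : GL (Fin N) F) : Matrix (Fin N) (Fin N) F)
      = (g : Matrix (Fin N) (Fin N) F₀).map ι := rfl

theorem glMap_apply (ι : F₀ →+* F) (g : GL (Fin N) F₀) (a b : Fin N) :
    ((Matrix.GeneralLinearGroup.map ι g : GL (Fin N) F) : Matrix (Fin N) (Fin N) F) a b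
      = ι ((g : Matrix (Fin N) (Fin N) F₀) a b) := rfl

theorem glMap_injective (ι : F₀ →+* F) :
    Function.Injective (Matrix.GeneralLinearGroup.map ι : GL (Fin N) F₀ → GL (Fin N) F) := by
  intro g h e
  apply Units.ext
  ext a b
  apply ι.injective
  rw [← glMap_apply, ← glMap_apply, e]

/-- extension of scalars preserves the orthogonal group -/
theorem glMap_mem_UH (ι : F₀ →+* F) {g : GL (Fin N) F₀} (hg : g ∈ UH N F₀ (RingHom.id F₀)) :
    Matrix.GeneralLinearGroup.map ι g ∈ UH N F (RingHom.id F) := by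
  rw [mem_UH_iff] at hg ⊢
  intro a b
  rw [← map_inv, glMap_apply, glMap_apply, RingHom.id_apply, hg a b, RingHom.id_apply]

/-- descent of the orthogonality relation -/
theorem mem_UH_of_glMap (ι : F₀ →+* F) {g : GL (Fin N) F₀}
    (hg : Matrix.GeneralLinearGroup.map ι g ∈ UH N F (RingHom.id F)) :
    g ∈ UH N F₀ (RingHom.id F₀) := by
  rw [mem_UH_iff] at hg ⊢
  intro a b
  apply ι.injective
  have := hg a b
  rw [← map_inv, glMap_apply, glMap_apply, RingHom.id_apply] at this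
  rw [RingHom.id_apply]
  exact this

theorem glMap_det (ι : F₀ →+* F) (g : GL (Fin N) F₀) :
    ((Matrix.GeneralLinearGroup.map ι g : GL (Fin N) F) : Matrix (Fin N) (Fin N) F).det
      = ι ((g : Matrix (Fin N) (Fin N) F₀).det) := by
  rw [glMap_val, RingHom.map_det]
  rfl

/-- extension of scalars `SO_N(F₀) → SO_N(F)` -/
def suMap (ι : F₀ →+* F) : SOm N F₀ →* SOm N F where
  toFun g := mk1 (Matrix.GeneralLinearGroup.map ι (gl g)) (glMap_mem_UH ι (gl_mem_UH g))
    (by rw [glMap_det, gl_det, map_one])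
  map_one' := by
    apply gl_injective
    rw [gl_mk1, gl_one, gl_one, map_one]
  map_mul' g h := by
    apply gl_injective
    rw [gl_mk1, gl_mul, gl_mul, gl_mk1, gl_mk1, map_mul]

theorem gl_suMap (ι : F₀ →+* F) (g : SOm N F₀) :
    gl (suMap ι g) = Matrix.GeneralLinearGroup.map ι (gl g) :=
  gl_mk1 _ (glMap_mem_UH ι (gl_mem_UH g)) (by rw [glMap_det, gl_det, map_one])

theorem suMap_injective (ι : F₀ →+* F) : Function.Injective (suMap (N := N) ι) := by
  intro g h e
  apply gl_injective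
  apply glMap_injective ι
  rw [← gl_suMap, ← gl_suMap, e]

theorem suMap_mem_OmS (ι : F₀ →+* F) {g : SOm N F₀} (hg : g ∈ OmS N F₀) :
    suMap ι g ∈ OmS N F := by
  have h : OmS N F₀ ≤ (OmS N F).comap (suMap ι) := by
    unfold OmS
    rw [commutator_eq_closure, Subgroup.closure_le]
    rintro _ ⟨x, y, rfl⟩
    rw [SetLike.mem_coe, Subgroup.mem_comap, map_commutatorElement]
    exact Subgroup.commutator_mem_commutator (Subgroup.mem_top _) (Subgroup.mem_top _)
  exact h hg

/-- extension of scalars `Ω_N(F₀) → Ω_N(F)` -/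
def omMap (ι : F₀ →+* F) : Omm N F₀ →* Omm N F :=
  ((suMap ι).comp (OmS N F₀).subtype).codRestrict (OmS N F) fun g => suMap_mem_OmS ι g.2

theorem omMap_coe (ι : F₀ →+* F) (g : Omm N F₀) :
    ((omMap ι g : Omm N F) : SOm N F) = suMap ι (g : SOm N F₀) := rfl

theorem glo_omMap (ι : F₀ →+* F) (g : Omm N F₀) :
    glo (omMap ι g) = Matrix.GeneralLinearGroup.map ι (glo g) := by
  rw [glo_eq, omMap_coe, gl_suMap, glo_eq]

theorem omMap_injective (ι : F₀ →+* F) : Function.Injective (omMap (N := N) ι) := by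
  intro g h e
  apply Subtype.ext
  apply suMap_injective ι
  rw [← omMap_coe, ← omMap_coe, e]

/-! ### descent -/

/-- a matrix with entries in the image of `ι` comes from `F₀` -/
theorem exists_glMap_eq (ι : F₀ →+* F) (u : GL (Fin N) F)
    (hu : ∀ a b, ∃ s : F₀, ι s = (u : Matrix (Fin N) (Fin N) F) a b) :
    ∃ u₀ : GL (Fin N) F₀, Matrix.GeneralLinearGroup.map ι u₀ = u := by
  choose B hB using hu
  have hBmap : (Matrix.of B).map ι = (u : Matrix (Fin N) (Fin N) F) := by
    ext a b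
    rw [Matrix.map_apply, Matrix.of_apply, hB]
  have hdet : (Matrix.of B).det ≠ 0 := by
    intro h
    have h1 : ι (Matrix.of B).det = (u : Matrix (Fin N) (Fin N) F).det := by
      rw [RingHom.map_det]
      exact congrArg Matrix.det hBmap
    rw [h, map_zero] at h1
    have h2 : IsUnit (u : Matrix (Fin N) (Fin N) F).det :=
      (Matrix.isUnit_iff_isUnit_det _).1 u.isUnit
    rw [← h1] at h2
    exact not_isUnit_zero h2
  refine ⟨Matrix.GeneralLinearGroup.mkOfDetNeZero (Matrix.of B) hdet, ?_⟩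
  apply Units.ext
  rw [glMap_val]
  exact hBmap

/-- an element of `SO_N(F)` with entries in the image of `ι` comes from `SO_N(F₀)` -/
theorem exists_suMap_eq (ι : F₀ →+* F) (u : SOm N F)
    (hu : ∀ a b, ∃ s : F₀, ι s = ((gl u : GL (Fin N) F) : Matrix (Fin N) (Fin N) F) a b) :
    ∃ u₀ : SOm N F₀, suMap ι u₀ = u := by
  obtain ⟨g₀, hg₀⟩ := exists_glMap_eq ι (gl u) hu
  have hU : g₀ ∈ UH N F₀ (RingHom.id F₀) := by
    apply mem_UH_of_glMap ι
    rw [hg₀]
    exact gl_mem_UH u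
  have hd : (g₀ : Matrix (Fin N) (Fin N) F₀).det = 1 := by
    apply ι.injective
    rw [← glMap_det, hg₀, gl_det, map_one]
  refine ⟨mk1 g₀ hU hd, ?_⟩
  apply gl_injective
  rw [gl_suMap, gl_mk1, hg₀]

/-- conjugation by an element of `SO_N(F₀)` inside `Ω_N(F₀)` -/
def conjOm (u : SOm N F₀) (s : Omm N F₀) : Omm N F₀ :=
  ⟨u * (s : SOm N F₀) * u⁻¹, (OmS_normal (N := N) (F := F₀)).conj_mem _ s.2 u⟩

theorem conjOm_coe (u : SOm N F₀) (s : Omm N F₀) :
    ((conjOm u s : Omm N F₀) : SOm N F₀) = u * (s : SOm N F₀) * u⁻¹ := rfl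

/-- an element of `Ω_N(F)` whose entries lie in the image of `ι` normalises the subfield
subgroup -/
theorem exists_omMap_conj (ι : F₀ →+* F) (g : Omm N F)
    (hg : ∀ a b, ∃ s : F₀, ι s = ((glo g : GL (Fin N) F) : Matrix (Fin N) (Fin N) F) a b)
    (s : Omm N F₀) : ∃ s' : Omm N F₀, omMap ι s' = g * omMap ι s * g⁻¹ := by
  obtain ⟨u₀, hu₀⟩ := exists_suMap_eq ι (g : SOm N F) hg
  refine ⟨conjOm u₀ s, ?_⟩
  apply Subtype.ext
  rw [omMap_coe, conjOm_coe, map_mul, map_mul, map_inv, hu₀]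
  rfl

end Cfsg.Agent.Lib.Helper8.Bal
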